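import Mathlib
import Cfsg.Agent.Lib.Helper2.UT12

set_option autoImplicit false

/-!
Two-generation of the unitary groups: the set `D` of isotropic vectors all of whose unitary
transvections lie in a given subgroup `K`, and the growth lemma: if `D` contains the isotropic
vectors of a nondegenerate subspace `W` and one further vector `w + w'` (`w ∈ W` anisotropic,
`w' ⟂ W`), then it contains every isotropic vector of `W + F w'`.
-/

namespace Cfsg.Agent.Lib.Helper6.SUTwo

open Module Cfsg.Agent.Lib.Helper2 Cfsg.Agent.Lib.Helper2.IsomDecomp Cfsg.Agent.Lib.Helper2.UT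
  Cfsg.Agent.Lib.Helper2.HermDecomp Cfsg.Agent.Lib.Helper5.PSLCoset

variable {F : Type*} [Field F] {σ : F ≃+* F} {V : Type*} [AddCommGroup V] [Module F V]
  {H : V → V → F}

/-- `p` is isotropic and all unitary transvections along `p` lie in `K` -/
def InD (h : IsHerm σ H) (K : Subgroup (V ≃ₗ[F] V)) (p : V) : Prop :=
  ∃ hp : H p p = 0, ∀ c : F, σ c = -c → tv h p c hp ∈ K

theorem InD.iso {h : IsHerm σ H} {K : Subgroup (V ≃ₗ[F] V)} {p : V} (hp : InD h K p) :
    H p p = 0 := hp.1

theorem InD.tv_mem {h : IsHerm σ H} {K : Subgroup (V ≃ₗ[F] V)} {p : V} (hp : InD h K p)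
    (c : F) (hc : σ c = -c) : tv h p c hp.iso ∈ K := hp.2 c hc

theorem tv_congr (h : IsHerm σ H) {v v' : V} {a a' : F} (hv : H v v = 0) (hvv : v = v')
    (haa : a = a') : tv h v a hv = tv h v' a' (by rw [← hvv]; exact hv) := by
  subst hvv haa
  rfl

theorem tv_smul (h : IsHerm σ H) (v : V) (l a : F) (hv : H v v = 0)
    (hv' : H (l • v) (l • v) = 0) : tv h (l • v) a hv' = tv h v (a * l * σ l) hv := by
  apply LinearEquiv.ext
  intro x
  rw [tv_apply, tv_apply, h.smul_right, smul_smul]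
  congr 2
  ring

theorem InD_zero (h : IsHerm σ H) (K : Subgroup (V ≃ₗ[F] V)) : InD h K (0 : V) := by
  refine ⟨h.zero_left 0, fun c _ => ?_⟩
  have : tv h (0 : V) c (h.zero_left 0) = 1 := by
    apply LinearEquiv.ext
    intro x
    rw [tv_apply]
    simp
  rw [this]
  exact K.one_mem

/-- `D` is stable under the isometries in `K` -/
theorem InD.map {h : IsHerm σ H} {K : Subgroup (V ≃ₗ[F] V)} {p : V} (hp : InD h K p)
    {g : V ≃ₗ[F] V} (hgK : g ∈ K) (hg : g ∈ isom H) : InD h K (g p) := by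
  refine ⟨by rw [hg, hp.iso], fun c hc => ?_⟩
  rw [← conj_tv h hg p c hp.iso]
  exact K.mul_mem (K.mul_mem hgK (hp.tv_mem c hc)) (K.inv_mem hgK)

/-- `D` is stable under scalars -/
theorem InD.smul (hσ2 : ∀ a : F, σ (σ a) = a) {h : IsHerm σ H} {K : Subgroup (V ≃ₗ[F] V)}
    {p : V} (hp : InD h K p) (l : F) : InD h K (l • p) := by
  have hl : H (l • p) (l • p) = 0 := by
    rw [h.smul_left, h.smul_right, hp.iso, mul_zero, mul_zero]
  refine ⟨hl, fun c hc => ?_⟩
  rw [tv_smul h p l c hp.iso hl]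
  apply hp.tv_mem
  rw [map_mul, map_mul, hc, hσ2]
  ring

/-- the hyperbolic line through two nonorthogonal members of `D` -/
theorem InD.line {h : IsHerm σ H} {K : Subgroup (V ≃ₗ[F] V)} {p r : V} (hp : InD h K p)
    (hr : InD h K r) (c : F) (hc : σ c = -c) : InD h K (p + (c * H p r) • r) := by
  have h1 := hp.map (hr.tv_mem c hc) (tv_mem_isom h r c hr.iso hc)
  rwa [tv_apply] at h1

end Cfsg.Agent.Lib.Helper6.SUTwo
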